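import Cfsg.Agent.SporadicA.PermTab
import Cfsg.Agent.SporadicA.MathieuRecog
import Cfsg.Agent.SporadicStructure.DodecadM12
import Cfsg.Prelude.Def_Spor_Mathieu
import Cfsg.Agent.SporadicRecognition.CosetCert
import Cfsg.Agent.KFacts.MulP.Words
import Cfsg.Agent.KFacts.MulP.MTtCAll
set_option linter.all false

-- part: KFacts/MulP/MTtModel
section
/-!
# `M₂₂` as a permutation group on 24 points generated by five elements of order 3

`G22 = ⟨pp 0, …, pp 4⟩`, `equiv : Spor.M22 ≃* G22`; the first four letters generate `A₇`, the first two `A₅`.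
-/

set_option autoImplicit false

namespace Cfsg.Agent.KFacts.MulP.MTtModel

open Equiv Cfsg.Agent.SporadicA.PermTab Cfsg.Agent.SporadicStructure Cfsg

/-- the letters, 11 bits per point -/
def tb (i : ℕ) : ℕ := [0x2e0080400d02c04807810008014058150280280380c0020380301100604c04800,
  0x2e0200980901a028010100180380a80702c0180200b01e0480281400600408800,
  0x2e054048080020380681002800c038130040280b00f0220180280b02401006000,
  0x2e04c088040040480580e0180140080702a0280a00d01e0180800900605804000,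
  0x2e0200680500800c0880701e04c0500c028054090060020580580e01200808000].getD i 0

/-- the inverses of the letters -/
def ti (i : ℕ) : ℕ := [0x2e04c0600b004048020100220180a00801a028008150120140700f00605803800,
  0x2e02c0680402a0180081000e0380980f0100480a0160180280280900604401000,
  0x2e0240b00f01800c03810010048088010080280a81401a0180280201c02c09800,
  0x2e0080580902c0480a80500e0400400f022028020010180180701400604c06800,
  0x2e0180500b01c0240880101e0100a80c00a034018160200200a01302400803800].getD i 0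

/-- the letters, 5 bits per point -/
def td (i : ℕ) : ℕ := [0xb890db49f021575a28ec0b8d11cd20,
  0xba2696a85063aa7b188b7c8b418620,
  0xbd5280b9b0a0cf312acf898ab91180,
  0xbce241496e61427aaa8d79a091d900,
  0xba1a520e277cd4ca56460d96e48a00].getD i 0

theorem chk_tb : ∀ i : Fin 5, chkInv 24 (tb i) (ti i) = true := by decide +kernel

/-- the letters -/
def pp (i : Fin 5) : Perm (Fin 24) := mkPerm (tb i) (ti i) (chk_tb i)

/-- the group -/
def G22 : Subgroup (Perm (Fin 24)) := Subgroup.closure (Set.range pp)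

theorem pp_mem (i : Fin 5) : pp i ∈ G22 := Subgroup.subset_closure ⟨i, rfl⟩

theorem inG (i : Fin 5) : InG G22 (tb i) := ⟨pp i, pp_mem i, fun _ => rfl⟩

/-! ### the order is at least 443520 -/

/-- words in the letters, the first one applied first -/
def wd (L : List (Fin 5)) : List ℕ := L.map fun i : Fin 5 => tb i

theorem inW {S : ℕ} (L : List (Fin 5)) (h : chkWord 24 S (wd L) = true) : InG G22 S := by
  refine InG.word (L := wd L) ?_ h
  intro P hP
  obtain ⟨i, -, rfl⟩ := List.mem_map.1 hP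
  exact inG i

/-- a strong generator of level 1 -/
def s10 : ℕ := 0x2e0100601400400c07007022058028060140540800d02402c0980f01202000800

/-- a strong generator of level 1 -/
def s11 : ℕ := 0x2e0300401301e0280480e00400c0a00b0220180a8160080140800d02401c00800

/-- a strong generator of level 2 -/
def s20 : ℕ := 0x2e0540480401e0480880601a00c0980b0100400b00c0280280700700a00800800

/-- a strong generator of level 2 -/
def s21 : ℕ := 0x2e02c0a81400e00c080080120580900501c03c0501100c04c0200c01a00800800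

/-- a strong generator of level 3 -/
def s30 : ℕ := 0x2e030078130280400881202a038040160080180380d0120280280b00600800800

/-- a strong generator of level 3 -/
def s31 : ℕ := 0x2e04c0a00d014048070070080140a80b0100580800c01203c0880600600800800

/-- a strong generator of level 3 -/
def s32 : ℕ := 0x2e04c0200c02c028088060160380381401e0480400901a0400281500600800800

/-- a strong generator of level 4 -/
def s40 : ℕ := 0x2e0400480b0280180280d0240440b0070260300401501403c0700400600800800

/-- orbit certificate of level 0 -/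
def c0 : ℕ := 0xffe040088100140680881403205005811024070080130100600d818038024007ff

/-- orbit certificate of level 1 -/
def c1 : ℕ := 0xffe060140110100a4140200120800c0200500841402003206408010060003fffff

/-- orbit certificate of level 2 -/
def c2 : ℕ := 0xffe064140280400241882903002008818022084100200600a008021001ffffffff

/-- orbit certificate of level 3 -/
def c3 : ℕ := 0xffe06005019040083ff81a013ffc0881101006010018034047ff800fffffffffff

/-- orbit certificate of level 4 -/
def c4 : ℕ := 0xffffffffffffffffc047ffffe043fffffffffffffffffffffc007fffffffffffff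

theorem in10 : InG G22 s10 := inW [0, 0, 4] (by decide +kernel)
theorem in11 : InG G22 s11 := inW [1, 2, 3] (by decide +kernel)
theorem in20 : InG G22 s20 := inW [2, 4, 4, 3, 4] (by decide +kernel)
theorem in21 : InG G22 s21 := inW [3, 0, 4, 3, 0] (by decide +kernel)
theorem in30 : InG G22 s30 := inW [0, 1, 4, 4, 3, 4, 1] (by decide +kernel)
theorem in31 : InG G22 s31 := inW [0, 4, 1, 3, 4, 4, 3] (by decide +kernel)
theorem in32 : InG G22 s32 := inW [1, 0, 1, 4, 4, 3, 4] (by decide +kernel)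
theorem in40 : InG G22 s40 := inW [1, 3, 2, 4, 1, 2, 3, 4] (by decide +kernel)

theorem ps10 : InG (ps G22 1) s10 := (in10).ps (x := 1) (by decide +kernel)
theorem ps11 : InG (ps G22 1) s11 := (in11).ps (x := 1) (by decide +kernel)
theorem ps20 : InG (ps (ps G22 1) 2) s20 := ((in20).ps (x := 1) (by decide +kernel)).ps (x := 2) (by decide +kernel)
theorem ps21 : InG (ps (ps G22 1) 2) s21 := ((in21).ps (x := 1) (by decide +kernel)).ps (x := 2) (by decide +kernel)
theorem ps30 : InG (ps (ps (ps G22 1) 2) 3) s30 := (((in30).ps (x := 1) (by decide +kernel)).ps (x := 2) (by decide +kernel)).ps (x := 3) (by decide +kernel)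
theorem ps31 : InG (ps (ps (ps G22 1) 2) 3) s31 := (((in31).ps (x := 1) (by decide +kernel)).ps (x := 2) (by decide +kernel)).ps (x := 3) (by decide +kernel)
theorem ps32 : InG (ps (ps (ps G22 1) 2) 3) s32 := (((in32).ps (x := 1) (by decide +kernel)).ps (x := 2) (by decide +kernel)).ps (x := 3) (by decide +kernel)
theorem ps40 : InG (ps (ps (ps (ps G22 1) 2) 3) 4) s40 := ((((in40).ps (x := 1) (by decide +kernel)).ps (x := 2) (by decide +kernel)).ps (x := 3) (by decide +kernel)).ps (x := 4) (by decide +kernel)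

theorem memL {H : Subgroup (Perm (Fin 24))} {P : ℕ} {L : List ℕ} (hP : InG H P) (hL : ∀ R ∈ L, InG H R) :
    ∀ R ∈ P :: L, InG H R := by
  intro R hR
  rcases List.mem_cons.1 hR with rfl | h
  · exact hP
  · exact hL R h

theorem memN {H : Subgroup (Perm (Fin 24))} : ∀ R ∈ ([] : List ℕ), InG H R := by
  intro R hR
  exact absurd hR List.not_mem_nil

theorem card_ge : 443520 ≤ Nat.card G22 := by
  have h4 : 3 * (1) ≤ Nat.card (ps (ps (ps (ps G22 1) 2) 3) 4) :=
    card_ge_of_chk (x := 5) (P0 := s40) (L := [s40]) (C := c4) ps40 (memL ps40 memN) (by decide +kernel)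
      (by decide +kernel) Nat.card_pos
  have h3 : 16 * (3 * (1)) ≤ Nat.card (ps (ps (ps G22 1) 2) 3) :=
    card_ge_of_chk (x := 4) (P0 := s30) (L := [s30, s31, s32]) (C := c3) ps30 (memL ps30 (memL ps31 (memL ps32 memN))) (by decide +kernel)
      (by decide +kernel) h4
  have h2 : 20 * (16 * (3 * (1))) ≤ Nat.card (ps (ps G22 1) 2) :=
    card_ge_of_chk (x := 3) (P0 := s20) (L := [s20, s21]) (C := c2) ps20 (memL ps20 (memL ps21 memN)) (by decide +kernel)
      (by decide +kernel) h3
  have h1 : 21 * (20 * (16 * (3 * (1)))) ≤ Nat.card (ps G22 1) :=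
    card_ge_of_chk (x := 2) (P0 := s10) (L := [s10, s11]) (C := c1) ps10 (memL ps10 (memL ps11 memN)) (by decide +kernel)
      (by decide +kernel) h2
  have h0 : 22 * (21 * (20 * (16 * (3 * (1))))) ≤ Nat.card G22 :=
    card_ge_of_chk (x := 1) (P0 := tb 0) (L := [tb 0, tb 1, tb 2, tb 3, tb 4]) (C := c0) (inG 0)
      (memL (inG 0) (memL (inG 1) (memL (inG 2) (memL (inG 3) (memL (inG 4) memN))))) (by decide +kernel)
      (by decide +kernel) h1
  exact h0

/-! ### the isomorphism -/

/-- numbering of the points -/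
def ee : GolayPt ≃ Fin 24 where
  toFun p := ⟨M12Core.pos p, M12Core.pos_lt p⟩
  invFun i := M12Core.ofPos i
  left_inv p := M12Core.ofPos_pos p
  right_inv i := Fin.ext (M12Core.pos_ofPos i.2)

/-- renumbering of permutations -/
def Φ : Perm GolayPt ≃* Perm (Fin 24) := ee.permCongrHom

theorem good_td : ∀ i : Fin 5, M12Core.good (td i) = true ∧ M12Core.dig (td i) 23 = 23 ∧
    M12Core.dig (td i) 0 = 0 ∧ ∀ j : Fin 24, lk (tb i) j = M12Core.dig (td i) j := by decide +kernel

theorem Φ_perm (i : Fin 5) : Φ (M12Core.perm (td i)) = pp i := by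
  refine Equiv.ext fun j => Fin.ext ?_
  show M12Core.pos (M12Core.perm (td i) (M12Core.ofPos j)) = lk (tb i) j
  rw [M12Core.pos_perm (DodecadM12.valid_of_good (good_td i).1), M12Core.pos_ofPos j.2, (good_td i).2.2.2 j]

theorem perm_mem (i : Fin 5) : M12Core.perm (td i) ∈ Spor.M22 := by
  have hv := DodecadM12.valid_of_good (good_td i).1
  refine ⟨⟨M12Core.perm_mem_M24 (good_td i).1, ?_⟩, ?_⟩
  · show M12Core.perm (td i) none = none
    apply M12Core.pos_injective
    rw [M12Core.pos_perm hv]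
    exact (good_td i).2.1
  · show M12Core.perm (td i) (some 0) = some 0
    apply M12Core.pos_injective
    rw [M12Core.pos_perm hv]
    exact (good_td i).2.2.1

theorem G22_le : G22 ≤ Spor.M22.map Φ.toMonoidHom := by
  rw [G22, Subgroup.closure_le]
  rintro _ ⟨i, rfl⟩
  exact ⟨_, perm_mem i, Φ_perm i⟩

theorem card_map : Nat.card (Spor.M22.map Φ.toMonoidHom) = 443520 := by
  rw [← Nat.card_congr (Spor.M22.equivMapOfInjective Φ.toMonoidHom Φ.injective).toEquiv]
  exact Cfsg.Agent.SporadicA.MathieuRecog.card_M22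

theorem G22_eq : G22 = Spor.M22.map Φ.toMonoidHom := by
  have : Finite (Spor.M22.map Φ.toMonoidHom) := inferInstance
  exact Subgroup.eq_of_le_of_card_ge G22_le (by rw [card_map]; exact card_ge)

theorem card_G22 : Nat.card G22 = 443520 := by rw [G22_eq, card_map]

/-- `Spor.M22` is `G22`. -/
noncomputable def equiv : Spor.M22 ≃* G22 :=
  (Spor.M22.equivMapOfInjective Φ.toMonoidHom Φ.injective).trans (MulEquiv.subgroupCongr G22_eq.symm)

end Cfsg.Agent.KFacts.MulP.MTtModel
end

-- part: KFacts/MulP/MTtAAll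
section
-- merged: Cfsg.Agent.KFacts.MulP.MTtAData
section

set_option autoImplicit false
set_option maxRecDepth 100000

namespace Cfsg.Agent.KFacts.MulP.MTtAData

open Cfsg.Agent.SporadicRecognition.CosetCert

noncomputable def tree : Tr := (.N 16 (.L 0xfffcbd03040b4833447fff2c38a476c7da1e2fffc9c72b3d89d5e70ffff26308c6586d51a2fffc84625353994a60ffff2028745465d1162fffc6c51f2cf953c50ffff1a205c4384cd922fffc5441924c912e40ffff2a3ca0e14184430fffc90d22303c3131c7fff1e2c70a0e102c20fffc60916202420d147fff0808141121c4062fffc0c1070c3050a10ffff060c1020204041f) (.N 32 (.L 0xfffdc5174620e39298ffff6f7dc1f6e79acf0fffe3656a5d9cf6d7c7fff818d994647184e0fffdee2604d74e63747fff77857125a695cd0fffd59a55694cd596c7fff8791496506134c0fffdce04c4524c4f647fff697a325485914b0fffd45986910cb475c7fff42550554050f4a0fffd95d808ceca3f547fff5f71ea23a48dc90fffd6db7684d49394c7fff4b61ca03440c480) (.L 0xfffe6e69e9e7e8a0a0ffff9da26a695866251fffe6679ca2460948c7fff8b5e39e979e4213fffe15688662a48990ffff7f5209d939a1203fffde537c71f627e88ffff7549e1b8f965a73)))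

noncomputable def wtree : WT := (.N 8 (.N 4 (.N 2 (.N 1 (.L 2 [3,3]) (.L 0 [1,1])) (.N 3 (.L 3 [1,3,1,3,1,2,0,2,0]) (.L 2 [0,3,0,3,1,2,1,2,1]))) (.N 6 (.N 5 (.L 3 [0,3,1,3,1,3,0,2,0]) (.L 3 [1,2,0,3,0,3,0,2,1])) (.N 7 (.L 2 [1,2,1,2,1,3,0,3,0]) (.L 3 [1,2,1,3,0,3,0,3,1])))) (.N 12 (.N 10 (.N 9 (.L 3 [0,2,1,3,1,3,1,2,0]) (.L 3 [1,3,0,3,0,3,1,2,1])) (.N 11 (.L 3 [0,2,0,3,1,3,1,3,0]) (.L 3 [0,2,0,2,1,3,1,3,1]))) (.N 14 (.N 13 (.L 3 [2,2]) (.L 1 [2,0,2,1,3,1,3,1,2])) (.N 15 (.L 0 [3,0,3,0,3,1,2,1,2]) (.L 1 [0,0])))))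

noncomputable def stree : ST := (.L 0 [] [])

noncomputable def C : Cert where
  data := tree
  lm := 15
  rb := 74
  fb := 14
  mask := 16383
  B := 64
  k := 4
  N := 40
  inv := fun x => bif Nat.beq x 0 then 1 else bif Nat.beq x 1 then 0 else bif Nat.beq x 2 then 3 else bif Nat.beq x 3 then 2 else x
  words := wtree
  subs := stree

def rels : List (List Nat) := [[0,0,0], [2,2,2], [0,2,0,2,0,3,1,3,1,3], [0,2,1,2,1,2,0,3,0,3]]

def subw : List (List Nat) := [[0]]

end Cfsg.Agent.KFacts.MulP.MTtAData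

end

-- merged: Cfsg.Agent.KFacts.MulP.MTtAChk0
section

set_option autoImplicit false
set_option maxRecDepth 100000

namespace Cfsg.Agent.KFacts.MulP.MTtAChk0

open Cfsg.Agent.SporadicRecognition.CosetCert Cfsg.Agent.KFacts.MulP.MTtAData

theorem c0 : Part C 0 40 40 := runChunk_sound C 40 (by decide +kernel : runChunk C 8 255 0x102d302c3020102a30201020102f302010202e30102f3020102d3020102d3020102d302b3020201c3020113c3020201c3020113c302020102630113c3020201c3020113a302020153020113023302019302011383020201730201134302020123020113020102020103020202010202010302020201020201030202020102020103020202020201020201130202020102020113020102020103020202020205 1 1 0 0 40 = 41)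

theorem all : Part C 0 40 40 := c0

end Cfsg.Agent.KFacts.MulP.MTtAChk0

end

-- merged: Cfsg.Agent.KFacts.MulP.MTtAAll
section

set_option autoImplicit false
set_option maxRecDepth 100000

namespace Cfsg.Agent.KFacts.MulP.MTtAAll

open Cfsg.Agent.SporadicRecognition.CosetCert Cfsg.Agent.KFacts.MulP.MTtAData

theorem part : Part C 0 C.N 40 := Cfsg.Agent.KFacts.MulP.MTtAChk0.all

end Cfsg.Agent.KFacts.MulP.MTtAAll

end
end

-- part: KFacts/MulP/MTtBAll
section
-- merged: Cfsg.Agent.KFacts.MulP.MTtBData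
section

set_option autoImplicit false
set_option maxRecDepth 100000

namespace Cfsg.Agent.KFacts.MulP.MTtBData

open Cfsg.Agent.SporadicRecognition.CosetCert

noncomputable def tree : Tr := (.N 32 (.N 16 (.L 0x2f9fffffffffffffffffffc8627ffffffe46013fff958dfffffffc82211502e245450ffff9792319cda9d70f3969795640347a2018452b9fffffffffffffffffffc7620fce1fffe3a2c6e1ba2a7052c0958cc2fcb5f4edfffc6618e4c242236116b228a84f4e9c99ffffa6254a482f286050b861586322862517fff15102709211a3a245c289810afa0de6fffe2308524894813108174fee1edb3cb4ffffceac92910d8e1c1c40387c70d0c17083fff9c5836ae14182630743169411083238ffff08080d04ceb19552ca853509e993526fffe0b041e28d4b23a244408478f8e1e1affffc7060d0b0504070458507861106210d3fff8a091210050412185420b04181c2432ffff070a0c101018182020203040408041f) (.L 0x5493ffffffffffffffe8825190a8e8fffe6c15fffffffffffffffd585ad2443bc84243fffbfec57b6b739ab3ab5588dc82250cf8b748ffffffffffffffffffe8023fffffff26f11ffffffffffffffe7e23ffffffffffe7fffd60f406c7d36f96e337d0b33eb47a201a4cfffffffffffffffb29966327820f8d8ffff3ba2741e6d946ef66b4cb69a8434db6fffe735ce0349f085dac731912b3d17ed8dfffcd831c98372e6f5d8a5b12461bcc225ffff9a9635ac6954cc2cb319060b25962b27fff544516bcc829a16885cae794d1422d52d0bffffffffffffffe5214b02954ffffe65b3fffffffffffffffffffffff28a44e140c477fff2e9dffffffffffffffe4c14a098ffff258e76648c2124b6da2dc45f9633985))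 (.N 48 (.L 0xffff22c24384a6d94311f5a5b8c9aa92467fffe2aac6228e3337ca879c69b8f5f1dbdffffd4f4a3e713aef3c449e87ab56d2ebb97fff875b0db618c4ab0bdf15dd60eac2a21ffff026e00f412c81d9068a9ba3f987da21fffded5bd6bbc7114b9e273d297bd6f8acffffbc239fe4eaa5ce63b6a7754ec8e4b827fff71d2e4a5be63a6a79d6e639c34b8a95553fffffffffffffffea12ffffffff52407fffd733aea76b3cd93acfb5b37504c9d2c17a67ffffffffffffffaf25fffe9b2d3f38ffff4d48972a5f8d8b664b0bb99b1256756fffe9329332a5644b48b37d6c5d6356bcaffffe7b93bea49448f25a11b46391e0eba93fffc5ef53aa8d25231d33482d909b54aaaaac9ffffffffffffffffffe8a27fffffff2) (.L 0xffff81e305c5eaebbd780d6f96df78bf709fffee5bdc77b86f6fded73dbb6bb5d74d0ffffda76b56d6196c98db77b44f65dacdb2ffffadeb5cd6bfad835af5b7fe2b52d5e40ffff52cea9753f4a8694eb29715cf7aadc5fffe9175474a36745ce82dd12fa4e74accffffd02a9f4738be6accef29e653aca73927fff996331c6c7b4c2597612b5a698ccf12)))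

noncomputable def wtree : WT := (.N 32 (.N 16 (.N 8 (.N 4 (.N 2 (.N 1 (.L 4 [5,5]) (.L 6 [7,7])) (.N 3 (.L 4 [1,5,2,0,3,4,0]) (.L 3 [0,4,1,5,1,3,4]))) (.N 6 (.N 5 (.L 0 [1,1]) (.L 5 [0,2,5,2,4,3,1])) (.N 7 (.L 3 [0,4,0,5,1,3,5]) (.L 2 [4,0,5,1,5,2,0])))) (.N 12 (.N 10 (.N 9 (.L 0 [5,2,1,3,4,0,4]) (.L 5 [7,5,2,1,3,4,6])) (.N 11 (.L 2 [3,3]) (.L 5 [2,0,4,1,5,1,3]))) (.N 14 (.N 13 (.L 0 [3,4,0,4,1,5,2]) (.L 5 [4,4])) (.N 15 (.L 6 [5,2,1,3,4,6,4]) (.L 0 [3,7,5,6,4,6,2]))))) (.N 24 (.N 20 (.N 18 (.N 17 (.L 6 [0,3,6,2,1,6,0]) (.L 2 [1,6,1,7,0,2,7])) (.N 19 (.L 8 [2,2,2]) (.L 8 [1,6,1,7,0,2,7,3]))) (.N 22 (.N 21 (.L 7 [4,6,2,1,3,7,5]) (.L 1 [3,7,5,7,4,6,2])) (.N 23 (.L 8 [4,0,5,1,3,5,2,0]) (.L 3 [0,3,4,6,5,7,5])))) (.N 28 (.N 26 (.N 25 (.L 6 [0,3,7,2,1,6,1]) (.L 0 [5,2,0,3,4,0,5])) (.N 27 (.L 3 [7,3,1,6,1,7,0]) (.L 3 [2,2]))) (.N 30 (.N 29 (.L 7 [0,7,0,3,6,2,1]) (.L 2 [7,5,7,4,6,2,0])) (.N 31 (.L 8 [7,0,3,7,2,1,6,1]) (.L 8 [7,3,1,6,1,7,0,2])))))) (.N 48 (.N 40 (.N 36 (.N 34 (.N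 33 (.L 2 [1,6,0,7,0,2,6]) (.L 3 [1,6,1,7,0,3,7])) (.N 35 (.L 0 [7,0,3,7,2,1,6]) (.L 3 [4,3,1,4,0,2,5]))) (.N 38 (.N 37 (.L 4 [0,2,5,3,4,3,1]) (.L 3 [0,3,7,5,7,4,6])) (.N 39 (.L 8 [7,5,6,4,6,2,1,3]) (.L 1 [5,1,3,5,2,0,4])))) (.N 44 (.N 42 (.N 41 (.L 7 [5,7,5,2,0,3,4]) (.L 0 [3,4,2,0,4,1,5])) (.N 43 (.L 3 [1,3,4,0,4,1,5]) (.L 6 [4,6,2,0,3,7,5]))) (.N 46 (.N 45 (.L 6 [3,1,6,1,7,0,2]) (.L 1 [3,4,0,5,1,5,2])) (.N 47 (.L 4 [7,5,2,0,3,4,6]) (.L 4 [1,3,4,2,0,4,1]))))) (.N 56 (.N 52 (.N 50 (.N 49 (.L 2 [5,2,0,4,0,5,1]) (.L 1 [0,0])) (.N 51 (.L 4 [1,3,5,2,0,4,0]) (.L 6 [0,2,6,3,1,6,0]))) (.N 54 (.N 53 (.L 5 [3,1,5,0,2,5,3]) (.L 7 [6,6])) (.N 55 (.L 3 [1,6,0,7,0,3,6]) (.L 0 [6,1,7,0,2,7,3])))) (.N 60 (.N 58 (.N 57 (.L 5 [3,1,4,0,2,5,2]) (.L 6 [2,1,6,1,7,0,3])) (.N 59 (.L 4 [3,4,3,1,5,0,2]) (.L 7 [2,1,6,0,7,0,3]))) (.N 62 (.N 61 (.L 2 [4,2,0,4,1,5,1]) (.L 7 [4,7,5,2,1,3,4])) (.N 63 (.L 3 [0,3,4,0,5,1,5]) (.N 64 (.L 1 [4,1,5,2,1,3,4]) (.L 2 [4,3,1,5,0,2,5]))))))))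

noncomputable def stree : ST := (.N 1 (.L 0 [] []) (.L 2 [] []))

noncomputable def C : Cert where
  data := tree
  lm := 15
  rb := 139
  fb := 15
  mask := 32767
  B := 64
  k := 8
  N := 56
  inv := fun x => bif Nat.beq x 0 then 1 else bif Nat.beq x 1 then 0 else bif Nat.beq x 2 then 3 else bif Nat.beq x 3 then 2 else bif Nat.beq x 4 then 5 else bif Nat.beq x 5 then 4 else bif Nat.beq x 6 then 7 else bif Nat.beq x 7 then 6 else x
  words := wtree
  subs := stree

def rels : List (List Nat) := [[0,0,0], [2,2,2], [4,4,4], [6,6,6], [0,2,5,2,4,3,1,4], [0,2,6,3,1,6,0,7], [0,3,4,0,5,1,5,2], [0,3,4,6,5,7,5,2], [0,3,6,2,1,6,0,7], [0,3,7,5,7,4,6,2], [0,4,0,5,1,3,5,2]]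

def subw : List (List Nat) := [[0], [2]]

end Cfsg.Agent.KFacts.MulP.MTtBData

end

-- merged: Cfsg.Agent.KFacts.MulP.MTtBChk0
section

set_option autoImplicit false
set_option maxRecDepth 100000

namespace Cfsg.Agent.KFacts.MulP.MTtBChk0

open Cfsg.Agent.SporadicRecognition.CosetCert Cfsg.Agent.KFacts.MulP.MTtBData

theorem c0 : Part C 0 56 42 := runChunk_sound C 42 (by decide +kernel : runChunk C 11 2047 0x28600801001004009f9802004b0c013a3002008010027a600800802366009398023860082980200500c0100100400859802004005698c3004e4c013a300200969802004008010010c600801193004e4c69802004004010c3004b0c2980200228c010020020080100336600801373766b0da1803004004010c3004ccc010027c6f0c00802004008012f300428c01001004b0c0100200200969802004acc01001546008010c350600800803366009398020000000000000200000002386008012435460080100100000000000004000008430040045980200474c0104300204c49802346008010f3286acc0100146600969a936a638c00803004c0d8988300000000000000004000000000000000000228ca9800000000000004e8008010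0138660c29a432e628c008430000000000000000400000000000000000020000000000460c012e36c6008010010000000000042644c00843004004012e3004008ca194004005c1b2300428c0104300204c498023c8790f21e4286008010010040080119300400800803004008010020000000000000244c01000000000000000000000100100040c000000000000084300404c008024a600801223000000000000000040000000040c0000000228c920f3004450010024a6008010010040000000000000000843004004010024a880d2a25400204c698023660080100200400859802004004010c3004004010020040080100200204c498020040080100200438c298020041cc01001004008010230c628c00843004004010020040080100200204c4980200400801002004008010010040080108300400800803066008010020040080100200405401005 19 524287 0x43e2e0000000f3000000000000000000021f27002cc007d8000000266e0e4e0000000f3000000000000000000000000002473105c670b800000026cf389c000038307000000000000000000000000000000000000000000000000000000000 0 56 = 43)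

theorem all : Part C 0 56 42 := c0

end Cfsg.Agent.KFacts.MulP.MTtBChk0

end

-- merged: Cfsg.Agent.KFacts.MulP.MTtBAll
section

set_option autoImplicit false
set_option maxRecDepth 100000

namespace Cfsg.Agent.KFacts.MulP.MTtBAll

open Cfsg.Agent.SporadicRecognition.CosetCert Cfsg.Agent.KFacts.MulP.MTtBData

theorem part : Part C 0 C.N 42 := Cfsg.Agent.KFacts.MulP.MTtBChk0.all

end Cfsg.Agent.KFacts.MulP.MTtBAll

end
end

-- part: KFacts/MulP/MTwentyTwo
section
/-!
# The 2-part of the multiplier of `M₂₂` has order at most 4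

Five elements of order 3: `⟨b₀⟩ < ⟨b₀, b₁⟩ = A₅ < ⟨b₀, b₁, b₂, b₃⟩ = A₇`, and five of them generate. All relators are of the form
`u⁻¹ x u = v⁻¹ y v` with letters `x, y`, so they hold for the lifts of order 3 in every perfect central extension by a
2-group; coset enumerations with 40, 42 and 352 cosets give the order `3 * 40 * 42 * 352 = 4 |M₂₂|`.
-/

set_option autoImplicit false

namespace Cfsg.Agent.KFacts.MulP.MTwentyTwo

open Subgroup Cfsg.Agent.SporadicRecognition.CosetCert Cfsg.Agent.SporadicRecognition.CosetCertHyp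
open Cfsg.Agent.KFacts.OddLift.Basic Cfsg.Agent.KFacts.MulP.Words Cfsg.Agent.KFacts.MulP.MTtModel
open Cfsg.Agent.SporadicA.PermTab (lk mkPerm)

universe u v

/-- the letters -/
def b (i : ℕ) : G22 := if h : i < 5 then ⟨pp ⟨i, h⟩, pp_mem _⟩ else 1

/-- the table of a symbol -/
def sb (y : ℕ) : ℕ := bif Nat.beq (y % 2) 0 then tb (y / 2) else ti (y / 2)

/-- the image of a point under a word -/
def run (w : List ℕ) (j : ℕ) : ℕ := w.foldr (fun y j => lk (sb y) j) j

theorem lt_val {y : ℕ} (hy : y < 2 * 5) (j : Fin 24) : (((lt b 5 y : G22) : Equiv.Perm (Fin 24)) j : ℕ) = lk (sb y) j := by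
  have hb : b (y / 2) = ⟨pp ⟨y / 2, by omega⟩, pp_mem _⟩ := dif_pos (by omega)
  unfold sb
  rcases Nat.mod_two_eq_zero_or_one y with h2 | h2
  · rw [lt_even _ 5 hy h2, h2, hb]
    rfl
  · rw [lt_odd _ 5 hy h2, h2, hb]
    rfl

theorem ev_val {w : List ℕ} (hw : ∀ y ∈ w, y < 2 * 5) (j : Fin 24) :
    (((ev (lt b 5) w : G22) : Equiv.Perm (Fin 24)) j : ℕ) = run w j := by
  induction w with
  | nil => rfl
  | cons y w ih =>
    have h1 := ih fun z hz => hw z (List.mem_cons_of_mem _ hz)
    rw [ev_cons, Subgroup.coe_mul, Equiv.Perm.mul_apply, lt_val (hw y List.mem_cons_self), h1]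
    rfl

/-- the word is trivial -/
def chk1 (w : List ℕ) : Bool := (w.all fun y => Nat.blt y (2 * 5)) && ((List.range 24).all fun j => Nat.beq (run w j) j)

theorem ev_eq_one {w : List ℕ} (h : chk1 w = true) : ev (lt b 5) w = 1 := by
  unfold chk1 at h
  rw [Bool.and_eq_true] at h
  refine Subtype.ext (Equiv.ext fun j => Fin.ext ?_)
  rw [ev_val (all_lt h.1)]
  exact Nat.eq_of_beq_eq_true (List.all_eq_true.1 h.2 j (List.mem_range.2 j.2))

theorem cubes : ((List.range 5).all fun i => chk1 [2 * i, 2 * i, 2 * i]) = true := by decide +kernel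

theorem cube_b {i : ℕ} (h : i < 5) : b i * b i * b i = 1 := by
  have h1 := ev_eq_one (List.all_eq_true.1 cubes i (List.mem_range.2 h))
  rw [ev_cons, ev_cons, ev_cons, ev_nil, mul_one, lt_even _ 5 (by omega) (by omega)] at h1
  have h2 : 2 * i / 2 = i := by omega
  rw [h2, ← mul_assoc] at h1
  exact h1

theorem odd_b (i : ℕ) : Odd (orderOf (b i)) := by
  by_cases h : i < 5
  · exact odd_of_cube (cube_b h)
  · have h2 : b i = 1 := dif_neg h
    rw [h2, orderOf_one]
    exact odd_one

theorem chkA : (MTtAData.rels.all fun r => chk1 r) = true := by decide +kernel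
theorem chkB : (MTtBData.rels.all fun r => chk1 r) = true := by decide +kernel
theorem chkC : (MTtCData.rels.all fun r => chk1 r) = true := by decide +kernel

theorem okA : (MTtAData.rels.all fun r => okr [] r) = true := by decide +kernel
theorem okB : (MTtBData.rels.all fun r => okr [] r) = true := by decide +kernel
theorem okC : (MTtCData.rels.all fun r => okr [] r) = true := by decide +kernel

theorem stA : stepOK MTtAData.C MTtAData.rels MTtAData.subw 2 1 = true := by decide +kernel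
theorem stB : stepOK MTtBData.C MTtBData.rels MTtBData.subw 4 2 = true := by decide +kernel
theorem stC : stepOK MTtCData.C MTtCData.rels MTtCData.subw 5 4 = true := by decide +kernel

theorem gen_eq : clo b 5 = ⊤ := by
  have hle : Set.range pp ⊆ ((clo b 5).map G22.subtype : Subgroup (Equiv.Perm (Fin 24))) := by
    rintro _ ⟨k, rfl⟩
    refine ⟨b k, mem_clo b k.2, ?_⟩
    have : b k = ⟨pp k, pp_mem _⟩ := dif_pos k.2
    rw [this]
    rfl
  rw [eq_top_iff]
  rintro ⟨g, hg⟩ -
  obtain ⟨g', h1, h2⟩ := (Subgroup.closure_le _).2 hle hg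
  have e : g' = ⟨g, hg⟩ := Subtype.ext h2
  rwa [← e]

theorem card_ker_le_G {L : Type*} [Group L] {π : L →* G22} (h : Cov π) : Finite L ∧ Nat.card π.ker ≤ 4 := by
  obtain ⟨B, hB, hBo⟩ := h.exists_lifts (b := b) odd_b
  have hrA := h.rels_eq_one hB hBo (n := 5) (odd := []) (by simp) okA
    fun r hr => ev_eq_one (List.all_eq_true.1 chkA r hr)
  have hrB := h.rels_eq_one hB hBo (n := 5) (odd := []) (by simp) okB
    fun r hr => ev_eq_one (List.all_eq_true.1 chkB r hr)
  have hrC := h.rels_eq_one hB hBo (n := 5) (odd := []) (by simp) okC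
    fun r hr => ev_eq_one (List.all_eq_true.1 chkC r hr)
  have h0 : B 0 ^ 3 = 1 := by
    refine h.eq_of_odd ?_ (by rw [orderOf_one]; exact odd_one) ?_
    · exact odd_pow (hBo 0) 3
    · rw [map_pow, hB, map_one, pow_succ, pow_two]
      exact cube_b (by norm_num)
  have s1 := base (B := B) (k := 3) (by norm_num) h0
  have s2 := step (B := B) MTtAData.C MTtAData.rels MTtAData.subw (k := 5) (by norm_num) stA hrA MTtAAll.part s1
  have s3 := step (B := B) MTtBData.C MTtBData.rels MTtBData.subw (k := 5) (by norm_num) stB hrB MTtBAll.part s2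
  have s4 := step (B := B) MTtCData.C MTtCData.rels MTtCData.subw (k := 5) (by norm_num) stC hrC MTtCAll.part s3
  refine h.card_ker_le hB gen_eq (by rw [card_G22]; norm_num) ⟨s4.1, ?_⟩
  rw [card_G22]
  exact s4.2

/-- **The 2-part of the multiplier of `M₂₂`.** -/
theorem card_ker_le {L : Type u} {X : Type v} [Group L] [Group X] (hX : Cfsg.Spor.IsoM22 X) {π : L →* X}
    (h : Cov π) : Finite L ∧ Nat.card π.ker ≤ 4 := by
  obtain ⟨e⟩ := hX
  have h1 := card_ker_le_G (cov_equiv h (e.trans MTtModel.equiv))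
  rwa [ker_equiv] at h1

/-- for central quotients -/
theorem card_le {K : Type u} [Group K] (hK : commutator K = ⊤) (Z : Subgroup K) [Z.Normal]
    (hZ : Z ≤ center K) (h2 : IsPGroup 2 Z) (hX : Cfsg.Spor.IsoM22 (K ⧸ Z)) : Nat.card Z ≤ 4 := by
  have hk := QuotientGroup.ker_mk' Z
  have hc : Cov (QuotientGroup.mk' Z) :=
    ⟨QuotientGroup.mk'_surjective _, by rw [hk]; exact hZ, by rw [hk]; exact h2, hK⟩
  have h1 := (card_ker_le hX hc).2
  rwa [hk] at h1

/-- without the assumption that the kernel is a 2-group -/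
theorem not_eight_dvd {X : Type v} [Group X] (hX : Cfsg.Spor.IsoM22 X) {K : Type u} [Group K] [Finite K]
    (hK : commutator K = ⊤) {f : K →* X} (hf : Function.Surjective f) (hZ : f.ker ≤ center K) :
    ¬ 8 ∣ Nat.card f.ker :=
  not_dvd_of_cov (e := 5) (fun L _ _ _ h => Nat.lt_succ_of_le (card_ker_le hX h).2) hK hf hZ (j := 3) (by norm_num)

end Cfsg.Agent.KFacts.MulP.MTwentyTwo
end
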